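import Mathlib
import Groth.Agent.S0389
import Groth.Agent.S4848
import Groth.Agent.UnivInjFib.Local
import Groth.Agent.FlatIntDescent.Main

/-!
Generic freeness over an irreducible base, by descent to a Noetherian model.
-/

set_option autoImplicit false
set_option linter.style.haveILetI false
set_option backward.isDefEq.respectTransparency false

universe u

open TensorProduct MvPolynomial Groth.Agent.GenFree Groth.Agent.FlatLocus

namespace Groth.Agent.GenFreeIrred

attribute [local instance] Algebra.TensorProduct.rightAlgebra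

/-- The model attached to a presentation with coefficients in a base ring. -/
theorem model_of_presentation {A₀ A : Type u} [CommRing A₀] [IsNoetherianRing A₀] [CommRing A] [Algebra A₀ A]
    {n a : ℕ} (N0 : Submodule (MvPolynomial (Fin n) A₀) (FreeMod A₀ a n)) (hN0 : N0.FG)
    {M : Type u} [AddCommGroup M] [Module (MvPolynomial (Fin n) A) M] [Module A M]
    [IsScalarTower A (MvPolynomial (Fin n) A) M]
    (eK : M ≃ₗ[MvPolynomial (Fin n) A] FreeMod A a n ⧸ locN A N0) :
    ∃ (A₀ : Type u) (_ : CommRing A₀) (_ : IsNoetherianRing A₀) (_ : Algebra A₀ A) (P₀ : Type u)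
      (_ : CommRing P₀) (_ : Algebra A₀ P₀) (_ : Algebra.FinitePresentation A₀ P₀) (M₀ : Type u)
      (_ : AddCommGroup M₀) (_ : Module P₀ M₀) (_ : Module A₀ M₀) (_ : IsScalarTower A₀ P₀ M₀)
      (_ : Module.FinitePresentation P₀ M₀),
      Nonempty (A ⊗[A₀] M₀ ≃ₗ[A] M) := by
  let P := MvPolynomial (Fin n) A
  let P₀ := MvPolynomial (Fin n) A₀
  letI : Algebra P₀ P := MvPolynomial.algebraMvPolynomial
  obtain ⟨eP⟩ := FibreDepth.nonempty_baseChange_quot (A := A) N0
  haveI : Module.FinitePresentation P₀ (FreeMod A₀ a n ⧸ N0) :=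
    Module.finitePresentation_of_surjective N0.mkQ (Submodule.mkQ_surjective _)
      (by rw [Submodule.ker_mkQ]; exact hN0)
  exact ⟨A₀, inferInstance, inferInstance, inferInstance, P₀, inferInstance, inferInstance, inferInstance,
    FreeMod A₀ a n ⧸ N0, inferInstance, inferInstance, inferInstance, inferInstance, inferInstance,
    FlatIntDescent.nonempty_model_equiv (eP.trans eK.symm)⟩

/-- A finitely presented module comes from a finitely presented module over a Noetherian base. -/
theorem exists_model {A : Type u} [CommRing A] (n : ℕ) (M : Type u) [AddCommGroup M]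
    [Module (MvPolynomial (Fin n) A) M] [Module A M] [IsScalarTower A (MvPolynomial (Fin n) A) M]
    [Module.FinitePresentation (MvPolynomial (Fin n) A) M] :
    ∃ (A₀ : Type u) (_ : CommRing A₀) (_ : IsNoetherianRing A₀) (_ : Algebra A₀ A) (P₀ : Type u)
      (_ : CommRing P₀) (_ : Algebra A₀ P₀) (_ : Algebra.FinitePresentation A₀ P₀) (M₀ : Type u)
      (_ : AddCommGroup M₀) (_ : Module P₀ M₀) (_ : Module A₀ M₀) (_ : IsScalarTower A₀ P₀ M₀)
      (_ : Module.FinitePresentation P₀ M₀),
      Nonempty (A ⊗[A₀] M₀ ≃ₗ[A] M) := by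
  classical
  let P := MvPolynomial (Fin n) A
  obtain ⟨a, K, eK, hK⟩ := Module.FinitePresentation.exists_fin P M
  obtain ⟨G, hG⟩ := hK
  obtain ⟨A₀, hA₀, hcoef⟩ : ∃ A₀ : Subalgebra ℤ A, A₀.FG ∧
      ∀ v ∈ G, ∀ (s : Fin a) (m : Fin n →₀ ℕ), coeff m (v s) ∈ A₀ := by
    refine ⟨Algebra.adjoin ℤ ((G.biUnion fun v => Finset.univ.biUnion fun s : Fin a =>
      (v s).support.image fun m => coeff m (v s) : Finset A) : Set A),
      Subalgebra.fg_adjoin_finset _, fun v hv s m => ?_⟩
    by_cases hm : coeff m (v s) = 0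
    · rw [hm]; exact zero_mem _
    · exact Algebra.subset_adjoin (Finset.mem_biUnion.mpr ⟨v, hv, Finset.mem_biUnion.mpr
        ⟨s, Finset.mem_univ _, Finset.mem_image_of_mem _ (mem_support_iff.mpr hm)⟩⟩)
  haveI : IsNoetherianRing A₀ := isNoetherianRing_of_fg hA₀
  let P₀ := MvPolynomial (Fin n) A₀
  have hex : ∀ v : G, ∃ v₀ : FreeMod A₀ a n, phi A v₀ = (v : Fin a → P) := by
    intro v
    choose c hc using fun s : Fin a =>
      FppfSrc.exists_map_eq' A₀ ((v : Fin a → P) s) fun m => hcoef v v.2 s m
    exact ⟨c, funext fun s => (phi_apply A c s).trans (hc s)⟩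
  choose g0 hg0 using hex
  let N0 : Submodule P₀ (FreeMod A₀ a n) := Submodule.span P₀ (Set.range g0)
  have hloc : locN A N0 = K := by
    refine le_antisymm ?_ ?_
    · rw [← hG]
      have : ∀ v ∈ N0, phi A v ∈ Submodule.span P (G : Set (Fin a → P)) := by
        intro v hv
        induction hv using Submodule.span_induction with
        | mem v hv =>
          obtain ⟨g, rfl⟩ := hv
          rw [hg0]
          exact Submodule.subset_span g.2
        | zero => rw [map_zero]; exact zero_mem _
        | add x y _ _ hx hy => rw [map_add]; exact add_mem hx hy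
        | smul c x _ hx => rw [phi_smul]; exact Submodule.smul_mem _ _ hx
      exact Submodule.span_le.2 (by rintro _ ⟨v, hv, rfl⟩; exact this v hv)
    · rw [← hG, Submodule.span_le]
      intro v hv
      have := phi_mem A N0 (Submodule.subset_span ⟨⟨v, hv⟩, rfl⟩ : g0 ⟨v, hv⟩ ∈ N0)
      rwa [hg0] at this
  exact model_of_presentation N0 (Submodule.fg_span (Set.finite_range g0))
    (eK.trans (Submodule.quotEquivOfEq _ _ hloc.symm))

/-- Free after inverting one element, over a Noetherian ring with prime nilradical. -/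
theorem exists_free_noeth {D : Type u} [CommRing D] [IsNoetherianRing D] [(nilradical D).IsPrime]
    {P E : Type u} [CommRing P] [Algebra D P] [Algebra.FiniteType D P] [AddCommGroup E] [Module P E]
    [Module D E] [IsScalarTower D P E] [Module.Finite P E] [Module.Flat D E] :
    ∃ d : D, d ∉ nilradical D ∧ Module.Free (Localization.Away d) (Localization.Away d ⊗[D] E) := by
  let Db := D ⧸ nilradical D
  haveI : IsScalarTower Db (Db ⊗[D] P) ((Db ⊗[D] P) ⊗[P] E) := inferInstance
  let eb : (Db ⊗[D] P) ⊗[P] E ≃ₗ[Db] Db ⊗[D] E :=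
    Algebra.IsPushout.cancelBaseChange D Db P (Db ⊗[D] P) E
  obtain ⟨f, hf, hfree, -⟩ := S0389.result (R := Db) (S := Db ⊗[D] P) (M := (Db ⊗[D] P) ⊗[P] E)
  obtain ⟨d, rfl⟩ := Ideal.Quotient.mk_surjective f
  refine ⟨d, fun h => hf (Ideal.Quotient.eq_zero_iff_mem.2 h), ?_⟩
  let R := Localization.Away d
  let J : Ideal R := (nilradical D).map (algebraMap D R)
  have hJ : IsNilpotent J := by
    obtain ⟨k, hk⟩ := IsNoetherianRing.isNilpotent_nilradical D
    exact ⟨k, by rw [← Ideal.map_pow, hk]; exact Ideal.map_bot⟩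
  let Af := Localization.Away (Ideal.Quotient.mk (nilradical D) d)
  let φ₀ : Db →+* R ⧸ J := Ideal.quotientMap J (algebraMap D R) Ideal.le_comap_map
  let φ : Af →+* R ⧸ J := IsLocalization.Away.lift (g := φ₀) (Ideal.Quotient.mk (nilradical D) d) (by
    rw [Ideal.quotientMap_mk]
    exact (IsLocalization.Away.algebraMap_isUnit d).map _)
  letI : Algebra Af (R ⧸ J) := φ.toAlgebra
  haveI : IsScalarTower D Af (R ⧸ J) := IsScalarTower.of_algebraMap_eq fun x => by
    rw [IsScalarTower.algebraMap_apply D Db Af, RingHom.algebraMap_toAlgebra]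
    exact ((IsLocalization.Away.lift_eq _ _ _).trans (Ideal.quotientMap_mk ..)).symm
  haveI : Module.Free Af (Af ⊗[D] E) := Module.Free.of_equiv'
    hfree ((AlgebraTensorModule.congr (LinearEquiv.refl Af Af) eb).trans
      (AlgebraTensorModule.cancelBaseChange D Db Af Af E))
  haveI : Module.Free (R ⧸ J) ((R ⧸ J) ⊗[R] (R ⊗[D] E)) :=
    Module.Free.of_equiv ((AlgebraTensorModule.cancelBaseChange D Af (R ⧸ J) (R ⧸ J) E).trans
      (AlgebraTensorModule.cancelBaseChange D R (R ⧸ J) (R ⧸ J) E).symm)
  exact UnivInjFib.free_of_nilpotent J hJ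

/-- Free after inverting one element, for a base change of the model to a Noetherian ring. -/
theorem exists_free_model {A₀ : Type u} [CommRing A₀] (P₀ : Type u) [CommRing P₀] [Algebra A₀ P₀]
    [Algebra.FinitePresentation A₀ P₀] {M₀ : Type u} [AddCommGroup M₀] [Module P₀ M₀] [Module A₀ M₀]
    [IsScalarTower A₀ P₀ M₀] [Module.FinitePresentation P₀ M₀] {D : Type u} [CommRing D] [Algebra A₀ D]
    [IsNoetherianRing D] [(nilradical D).IsPrime] [Module.Flat D (D ⊗[A₀] M₀)] :
    ∃ d : D, d ∉ nilradical D ∧ Module.Free (Localization.Away d) (Localization.Away d ⊗[A₀] M₀) := by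
  let eD : (D ⊗[A₀] P₀) ⊗[P₀] M₀ ≃ₗ[D] D ⊗[A₀] M₀ :=
    Algebra.IsPushout.cancelBaseChange A₀ D P₀ (D ⊗[A₀] P₀) M₀
  haveI : Module.Flat D ((D ⊗[A₀] P₀) ⊗[P₀] M₀) := Module.Flat.of_linearEquiv eD
  obtain ⟨d, hd, hfree⟩ := exists_free_noeth (D := D) (P := D ⊗[A₀] P₀) (E := (D ⊗[A₀] P₀) ⊗[P₀] M₀)
  exact ⟨d, hd, Module.Free.of_equiv' hfree ((AlgebraTensorModule.congr (LinearEquiv.refl _ _) eD).trans
    (AlgebraTensorModule.cancelBaseChange A₀ D (Localization.Away d) (Localization.Away d) M₀))⟩

/-- Indices for the localisations away from `p`. -/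
structure Idx {A : Type u} [CommRing A] (p : Ideal A) : Type u where
  /-- the element inverted -/
  t : A
  /-- it lies outside `p` -/
  notMem : t ∉ p

instance {A : Type u} [CommRing A] (p : Ideal A) : Preorder (Idx p) :=
  { le := fun i j => i.t ∣ j.t, le_refl := fun i => dvd_rfl, le_trans := fun _ _ _ => dvd_trans }

/-- Flatness descends to a finitely generated subalgebra. -/
theorem exists_flat_sub {A₀ : Type u} [CommRing A₀] [IsNoetherianRing A₀] (P₀ : Type u) [CommRing P₀] [Algebra A₀ P₀]
  [Algebra.FinitePresentation A₀ P₀] {M₀ : Type u} [AddCommGroup M₀] [Module P₀ M₀] [Module A₀ M₀]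
  [IsScalarTower A₀ P₀ M₀] [Module.FinitePresentation P₀ M₀]
    {R : Type u} [CommRing R] [Algebra A₀ R] (h : Module.Flat R (R ⊗[A₀] M₀)) :
    ∃ D : Subalgebra A₀ R, D.FG ∧ Module.Flat D (D ⊗[A₀] M₀) := by
  let ι := {D : Subalgebra A₀ R // D.FG}
  have hdir : IsDirected ι (· ≤ ·) := ⟨fun i j => ⟨⟨i.1 ⊔ j.1, i.2.sup j.2⟩,
    (le_sup_left : i.1 ≤ i.1 ⊔ j.1), (le_sup_right : j.1 ≤ i.1 ⊔ j.1)⟩⟩
  obtain ⟨⟨D, hD⟩, hflat⟩ := (S4848.result (A₀ := A₀) (fun i : ι => i.1)
    (fun i j h => Subalgebra.inclusion h) R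
    ⟨hdir, ⟨⟨⊥, Subalgebra.fg_bot⟩⟩, fun i => RingHom.ext fun x => rfl, fun i j k _ _ => RingHom.ext fun x => rfl,
      fun i j h => RingHom.ext fun x => rfl,
      fun a => ⟨⟨Algebra.adjoin A₀ {a}, ⟨{a}, by simp⟩⟩, ⟨a, Algebra.subset_adjoin rfl⟩, rfl⟩,
      fun i x hx => ⟨i, le_rfl, Subtype.ext hx⟩⟩ (B₀ := P₀) M₀).1 h
  exact ⟨D, hD, hflat⟩

/-- Flatness at the minimal prime spreads to a basic open. -/
theorem exists_flat_away {A₀ : Type u} [CommRing A₀] [IsNoetherianRing A₀] (P₀ : Type u) [CommRing P₀] [Algebra A₀ P₀]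
  [Algebra.FinitePresentation A₀ P₀] {M₀ : Type u} [AddCommGroup M₀] [Module P₀ M₀] [Module A₀ M₀]
  [IsScalarTower A₀ P₀ M₀] [Module.FinitePresentation P₀ M₀]
    {A : Type u} [CommRing A] [Algebra A₀ A] (p : Ideal A) [p.IsPrime]
    (h : Module.Flat (Localization.AtPrime p) (Localization.AtPrime p ⊗[A₀] M₀)) :
    ∃ t : A, t ∉ p ∧ Module.Flat (Localization.Away t) (Localization.Away t ⊗[A₀] M₀) := by
  classical
  letI : ∀ i : Idx p, Algebra (Localization.Away i.t) (Localization.AtPrime p) := fun i =>
    (IsLocalization.Away.lift (g := algebraMap A (Localization.AtPrime p)) i.t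
      (IsLocalization.map_units (Localization.AtPrime p) (⟨i.t, i.notMem⟩ : p.primeCompl))).toAlgebra
  have hcomm : ∀ (i : Idx p) (a : A),
      algebraMap (Localization.Away i.t) (Localization.AtPrime p) (algebraMap A _ a) = algebraMap A _ a := fun i a =>
    IsLocalization.Away.lift_eq _ _ _
  haveI : ∀ i : Idx p, IsScalarTower A₀ (Localization.Away i.t) (Localization.AtPrime p) := fun i =>
    IsScalarTower.of_algebraMap_eq fun x => by
      rw [IsScalarTower.algebraMap_apply A₀ A (Localization.Away i.t), hcomm, ← IsScalarTower.algebraMap_apply]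
  let g : ∀ i j : Idx p, i ≤ j → Localization.Away i.t →ₐ[A₀] Localization.Away j.t := fun i j hij =>
    { __ := IsLocalization.Away.lift (g := algebraMap A (Localization.Away j.t)) i.t
        (isUnit_of_dvd_unit (map_dvd _ hij) (IsLocalization.Away.algebraMap_isUnit j.t))
      commutes' := fun x => by
        change IsLocalization.Away.lift _ _ (algebraMap A₀ (Localization.Away i.t) x) = _
        rw [IsScalarTower.algebraMap_apply A₀ A (Localization.Away i.t), IsLocalization.Away.lift_eq,
          ← IsScalarTower.algebraMap_apply] }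
  have hg : ∀ (i j : Idx p) (hij : i ≤ j) (a : A), g i j hij (algebraMap A _ a) = algebraMap A _ a :=
    fun i j hij a => IsLocalization.Away.lift_eq i.t
      (isUnit_of_dvd_unit (map_dvd _ hij) (IsLocalization.Away.algebraMap_isUnit j.t)) a
  have hdir : IsDirected (Idx p) (· ≤ ·) :=
    ⟨fun i j => ⟨⟨i.t * j.t, p.primeCompl.mul_mem i.notMem j.notMem⟩, dvd_mul_right _ _, dvd_mul_left _ _⟩⟩
  obtain ⟨i, hi⟩ := (S4848.result (A₀ := A₀) (fun i : Idx p => Localization.Away i.t) g (Localization.AtPrime p)
    ⟨hdir, ⟨⟨1, p.primeCompl.one_mem⟩⟩,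
      fun i => IsLocalization.ringHom_ext (Submonoid.powers i.t) (RingHom.ext fun a => hg i i le_rfl a),
      fun i j k hij hjk => IsLocalization.ringHom_ext (Submonoid.powers i.t) (RingHom.ext fun a => by
        show g j k hjk (g i j hij (algebraMap A _ a)) = g i k (hij.trans hjk) (algebraMap A _ a)
        rw [hg i j hij, hg j k hjk, hg i k (hij.trans hjk)]),
      fun i j hij => IsLocalization.ringHom_ext (Submonoid.powers i.t) (RingHom.ext fun a => by
        show algebraMap _ (Localization.AtPrime p) (g i j hij (algebraMap A _ a)) = _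
        rw [hg i j hij, hcomm]; exact (hcomm i a).symm),
      fun z => by
        obtain ⟨⟨a, s⟩, hs⟩ := IsLocalization.surj p.primeCompl z
        refine ⟨⟨s, s.2⟩, algebraMap A (Localization.Away (s : A)) a *
          IsLocalization.Away.invSelf (s : A), ?_⟩
        have hu : IsUnit (algebraMap A (Localization.AtPrime p) (s : A)) := IsLocalization.map_units _ s
        refine hu.mul_left_injective.eq_iff.1 ?_
        dsimp only
        rw [hs]
        refine Eq.trans (congrArg (_ * ·) (hcomm ⟨s, s.2⟩ (s : A)).symm) ?_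
        refine Eq.trans (map_mul _ _ _).symm ?_
        rw [mul_assoc, mul_comm (IsLocalization.Away.invSelf (s : A)), IsLocalization.Away.mul_invSelf, mul_one]
        exact hcomm ⟨s, s.2⟩ a,
      fun i x hx => by
        obtain ⟨⟨a, s⟩, hs⟩ := IsLocalization.surj (Submonoid.powers i.t) x
        have h0 : algebraMap A (Localization.AtPrime p) a = 0 := by
          rw [← hcomm i a]
          dsimp only at hs
          rw [← hs, map_mul, hx, zero_mul]
        obtain ⟨c, hc⟩ := (IsLocalization.map_eq_zero_iff p.primeCompl _ a).1 h0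
        let j : Idx p := ⟨i.t * c, p.primeCompl.mul_mem i.notMem c.2⟩
        have hij : i ≤ j := dvd_mul_right _ _
        refine ⟨j, hij, ?_⟩
        have hsu : IsUnit (algebraMap A (Localization.Away j.t) (s : A)) := by
          obtain ⟨_, k, rfl⟩ := s
          rw [map_pow]
          exact (isUnit_of_dvd_unit (map_dvd _ hij) (IsLocalization.Away.algebraMap_isUnit j.t)).pow k
        have hcu : IsUnit (algebraMap A (Localization.Away j.t) (c : A)) :=
          isUnit_of_dvd_unit (map_dvd _ (dvd_mul_left (c : A) i.t)) (IsLocalization.Away.algebraMap_isUnit j.t)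
        refine hsu.mul_left_eq_zero.1 (hcu.mul_right_eq_zero.1 ?_)
        show algebraMap A _ (c : A) * (g i j hij x * algebraMap A _ (s : A)) = 0
        rw [← hg i j hij (s : A), ← map_mul]
        dsimp only at hs
        rw [hs, hg i j hij, ← map_mul, hc, map_zero]⟩ (B₀ := P₀) M₀).1 h
  exact ⟨i.t, i.notMem, hi⟩

/-- Generic freeness over an irreducible base, from a Noetherian model. -/
theorem exists_free_away {A₀ : Type u} [CommRing A₀] [IsNoetherianRing A₀] (P₀ : Type u) [CommRing P₀] [Algebra A₀ P₀]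
  [Algebra.FinitePresentation A₀ P₀] {M₀ : Type u} [AddCommGroup M₀] [Module P₀ M₀] [Module A₀ M₀]
  [IsScalarTower A₀ P₀ M₀] [Module.FinitePresentation P₀ M₀]
    {A : Type u} [CommRing A] [Algebra A₀ A] (p : Ideal A) [p.IsPrime]
    (hp : nilradical A = p)
    (h : Module.Flat (Localization.AtPrime p) (Localization.AtPrime p ⊗[A₀] M₀)) :
    ∃ t : A, t ∉ p ∧ Module.Free (Localization.Away t) (Localization.Away t ⊗[A₀] M₀) := by
  obtain ⟨t, ht, hflat⟩ := exists_flat_away P₀ p h
  obtain ⟨D, hD, hflatD⟩ := exists_flat_sub P₀ hflat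
  haveI : Algebra.FiniteType A₀ D := D.fg_iff_finiteType.1 hD
  haveI : IsNoetherianRing D := Algebra.FiniteType.isNoetherianRing A₀ D
  haveI hprime : (nilradical (Localization.Away t)).IsPrime := by
    have hd : Disjoint (Submonoid.powers t : Set A) (p : Set A) := by
      rw [Set.disjoint_left]; rintro _ ⟨k, rfl⟩ hk
      exact ht ((‹p.IsPrime›).mem_of_pow_mem k hk)
    rw [show nilradical (Localization.Away t) = p.map (algebraMap A (Localization.Away t)) by
      show Ideal.radical (⊥ : Ideal (Localization.Away t)) = _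
      rw [← hp, ← Ideal.map_bot (f := algebraMap A (Localization.Away t)),
        ← IsLocalization.map_radical (Submonoid.powers t)]
      rfl]
    exact IsLocalization.isPrime_of_isPrime_disjoint _ _ p inferInstance hd
  haveI : (nilradical D).IsPrime := by
    rw [show nilradical D = (nilradical (Localization.Away t)).comap D.val from Ideal.ext fun x => by
      simp only [Ideal.mem_comap, mem_nilradical]
      exact (IsNilpotent.map_iff (f := D.val) Subtype.val_injective).symm]
    infer_instance
  obtain ⟨d, hd, hfree⟩ := exists_free_model (A₀ := A₀) (D := D) P₀ (M₀ := M₀)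
  obtain ⟨⟨a, s⟩, has⟩ := IsLocalization.surj (Submonoid.powers t) (d : Localization.Away t)
  dsimp only at has
  have hsu : IsUnit (algebraMap A (Localization.Away t) (s : A)) := IsLocalization.map_units _ s
  have ha : a ∉ p := fun hmem => hd (mem_nilradical.2 ((IsNilpotent.map_iff (f := D.val) Subtype.val_injective).1 (by
    refine mem_nilradical.1 ((Ideal.mul_unit_mem_iff_mem _ hsu).1 ?_)
    show (d : Localization.Away t) * _ ∈ _
    rw [has]
    exact mem_nilradical.2 ((mem_nilradical.1 (hp.symm ▸ hmem : a ∈ nilradical A)).map _))))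
  refine ⟨t * a, p.primeCompl.mul_mem ht ha, ?_⟩
  let T := Localization.Away (t * a)
  let ψ : Localization.Away t →+* T := IsLocalization.Away.lift (g := algebraMap A T) t
    (isUnit_of_dvd_unit (map_dvd _ (dvd_mul_right t a)) (IsLocalization.Away.algebraMap_isUnit (t * a)))
  have hψ : ∀ b, ψ (algebraMap A _ b) = algebraMap A T b := fun b => IsLocalization.Away.lift_eq _ _ _
  letI : Algebra D T := (ψ.comp (D.val : D →+* Localization.Away t)).toAlgebra
  haveI : IsScalarTower A₀ D T := IsScalarTower.of_algebraMap_eq fun x => by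
    rw [RingHom.algebraMap_toAlgebra]
    show algebraMap A₀ T x = ψ (algebraMap A₀ (Localization.Away t) x)
    rw [IsScalarTower.algebraMap_apply A₀ A (Localization.Away t), hψ, ← IsScalarTower.algebraMap_apply]
  have hdu : IsUnit (algebraMap D T d) := by
    rw [RingHom.algebraMap_toAlgebra]
    show IsUnit (ψ (d : Localization.Away t))
    refine isUnit_of_mul_isUnit_left (y := ψ (algebraMap A _ (s : A))) ?_
    rw [← map_mul, has, hψ]
    exact isUnit_of_dvd_unit (map_dvd _ (dvd_mul_left a t)) (IsLocalization.Away.algebraMap_isUnit (t * a))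
  letI : Algebra (Localization.Away d) T := (IsLocalization.Away.lift d hdu).toAlgebra
  haveI := hfree
  haveI : IsScalarTower D (Localization.Away d) T :=
    IsScalarTower.of_algebraMap_eq fun x => (IsLocalization.Away.lift_eq _ hdu x).symm
  haveI : IsScalarTower A₀ (Localization.Away d) T := IsScalarTower.of_algebraMap_eq fun x => by
    rw [IsScalarTower.algebraMap_apply A₀ D (Localization.Away d), ← IsScalarTower.algebraMap_apply D,
      ← IsScalarTower.algebraMap_apply]
  exact Module.Free.of_equiv (AlgebraTensorModule.cancelBaseChange A₀ (Localization.Away d) T T M₀)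

end Groth.Agent.GenFreeIrred
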