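import Mathlib
import Groth.Agent.GenFreeIrred.Basic

/-!
Generic freeness over an irreducible base for finitely presented modules.
-/

set_option autoImplicit false
set_option linter.style.haveILetI false

universe u

open TensorProduct

namespace Groth.Agent.GenFreeIrred

/-- Generic freeness over an irreducible base. -/
theorem exists_free_of_flat {A B : Type u} [CommRing A] [CommRing B] [Algebra A B]
    [Algebra.FinitePresentation A B] (p : Ideal A) [p.IsPrime] (hp : nilradical A = p)
    (M : Type u) [AddCommGroup M] [Module B M] [Module A M] [IsScalarTower A B M] [Module.FinitePresentation B M]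
    [Module.Flat (Localization.AtPrime p) (LocalizedModule p.primeCompl M)] :
    ∃ t : A, t ∉ p ∧ Module.Free (Localization.Away t) (Localization.Away t ⊗[A] M) := by
  obtain ⟨n, π, hπ, hker⟩ := Algebra.FinitePresentation.out (R := A) (A := B)
  letI : Algebra (MvPolynomial (Fin n) A) B := π.toRingHom.toAlgebra
  haveI : IsScalarTower A (MvPolynomial (Fin n) A) B := .of_algebraMap_eq fun r => (π.commutes r).symm
  letI : Module (MvPolynomial (Fin n) A) M := Module.compHom M π.toRingHom
  haveI : IsScalarTower (MvPolynomial (Fin n) A) B M := .of_algebraMap_smul fun _ _ => rfl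
  haveI : IsScalarTower A (MvPolynomial (Fin n) A) M := .of_algebraMap_smul fun r z => by
    show π (algebraMap A (MvPolynomial (Fin n) A) r) • z = r • z
    rw [π.commutes, algebraMap_smul]
  haveI : Module.FinitePresentation (MvPolynomial (Fin n) A) B :=
    Module.finitePresentation_of_surjective (Algebra.linearMap (MvPolynomial (Fin n) A) B) hπ hker
  haveI : Module.FinitePresentation (MvPolynomial (Fin n) A) M :=
    Module.FinitePresentation.trans (R := MvPolynomial (Fin n) A) (S := B) (M := M)
  obtain ⟨A₀, _, _, _, P₀, _, _, _, M₀, _, _, _, _, _, ⟨e⟩⟩ := exists_model (A := A) n M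
  have h : Module.Flat (Localization.AtPrime p) (Localization.AtPrime p ⊗[A₀] M₀) :=
    Module.Flat.of_linearEquiv (((LocalizedModule.equivTensorProduct p.primeCompl M).trans
      (AlgebraTensorModule.congr (LinearEquiv.refl _ _) e.symm)).trans
      (AlgebraTensorModule.cancelBaseChange A₀ A (Localization.AtPrime p) (Localization.AtPrime p) M₀)).symm
  obtain ⟨t, ht, hfree⟩ := exists_free_away P₀ p hp h
  exact ⟨t, ht, Module.Free.of_equiv' hfree
    ((AlgebraTensorModule.cancelBaseChange A₀ A (Localization.Away t) (Localization.Away t) M₀).symm.trans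
      (AlgebraTensorModule.congr (LinearEquiv.refl _ _) e))⟩

end Groth.Agent.GenFreeIrred
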