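import Mathlib
import Groth.Agent.GenFreeIrred.Module

/-!
A flat finitely presented module becomes free on the members of a finite stratification of the base.
-/

set_option autoImplicit false
set_option linter.style.haveILetI false

universe u

open TensorProduct

namespace Groth.Agent.GenFreeIrred

/-- Freeness passes to larger base changes. -/
theorem free_of_hom {D T T' : Type u} [CommRing D] [CommRing T] [CommRing T'] [Algebra D T] [Algebra D T']
    (φ : T →ₐ[D] T') (M : Type u) [AddCommGroup M] [Module D M] [Module.Free T (T ⊗[D] M)] :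
    Module.Free T' (T' ⊗[D] M) := by
  letI : Algebra T T' := φ.toRingHom.toAlgebra
  haveI : IsScalarTower D T T' := IsScalarTower.of_algebraMap_eq fun x => (φ.commutes x).symm
  exact Module.Free.of_equiv (AlgebraTensorModule.cancelBaseChange D T T' T' M)

attribute [local instance] Algebra.TensorProduct.rightAlgebra

variable (P₀ : Type u) [CommRing P₀]

/-- One stratum. -/
theorem exists_stratum {D : Type u} [CommRing D] [IsNoetherianRing D] [Algebra D P₀]
    [Algebra.FinitePresentation D P₀] {M₀ : Type u} [AddCommGroup M₀] [Module P₀ M₀] [Module D M₀]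
    [IsScalarTower D P₀ M₀] [Module.FinitePresentation P₀ M₀] [Module.Flat D M₀] (I : Ideal D) (hI : I ≠ ⊤) :
    ∃ f : D, f ∉ I ∧ Module.Free (Localization.Away f ⧸ I.map (algebraMap D (Localization.Away f)))
      ((Localization.Away f ⧸ I.map (algebraMap D (Localization.Away f))) ⊗[D] M₀) := by
  classical
  haveI : Nontrivial (D ⧸ I) := Ideal.Quotient.nontrivial_iff.2 hI
  have hfin : (minimalPrimes (D ⧸ I)).Finite := minimalPrimes.finite_of_isNoetherianRing (D ⧸ I)
  obtain ⟨P, hP⟩ : (minimalPrimes (D ⧸ I)).Nonempty := by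
    obtain ⟨m, hm⟩ := Ideal.exists_maximal (D ⧸ I)
    obtain ⟨q, hq, -⟩ := @Ideal.exists_minimalPrimes_le (D ⧸ I) _ ⊥ m hm.isPrime bot_le
    exact ⟨q, hq⟩
  haveI : P.IsPrime := Ideal.minimalPrimes_isPrime hP
  obtain ⟨g, hgP, hg⟩ : ∃ g : D ⧸ I, g ∉ P ∧ ∀ Q ∈ minimalPrimes (D ⧸ I), Q ≠ P → g ∈ Q := by
    by_contra hne
    push Not at hne
    have hle : ((hfin.toFinset.erase P).inf fun Q => Q) ≤ P := fun a ha => by
      by_contra haP
      obtain ⟨Q, hQ, hQP, haQ⟩ := hne a haP
      exact haQ (Submodule.mem_finsetInf.1 ha Q (Finset.mem_erase.2 ⟨hQP, hfin.mem_toFinset.2 hQ⟩))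
    obtain ⟨Q, hQ, hQP⟩ := (Ideal.IsPrime.inf_le' inferInstance).1 hle
    obtain ⟨hne', hQ⟩ := Finset.mem_erase.1 hQ
    have hQ' := hfin.mem_toFinset.1 hQ
    exact hne' (le_antisymm hQP (hP.2 ⟨Ideal.minimalPrimes_isPrime hQ', bot_le⟩ hQP))
  let D' := Localization.Away g
  haveI : IsNoetherianRing D' := IsLocalization.isNoetherianRing (Submonoid.powers g) D' inferInstance
  have hd : Disjoint (Submonoid.powers g : Set (D ⧸ I)) (P : Set (D ⧸ I)) := by
    rw [Set.disjoint_left]
    rintro _ ⟨k, rfl⟩ hk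
    exact hgP ((‹P.IsPrime›).mem_of_pow_mem k hk)
  have hnil : nilradical D' = P.map (algebraMap (D ⧸ I) D') := by
    refine le_antisymm ?_ ?_
    · intro x hx
      haveI := IsLocalization.isPrime_of_isPrime_disjoint (Submonoid.powers g) D' P inferInstance hd
      obtain ⟨k, hk⟩ := mem_nilradical.1 hx
      exact Ideal.IsPrime.mem_of_pow_mem inferInstance k (hk ▸ Ideal.zero_mem _)
    · rw [Ideal.map_le_iff_le_comap]
      intro x hx
      have hgx : IsNilpotent (g * x) := by
        rw [← mem_nilradical, nilradical_eq_sInf, Submodule.mem_sInf]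
        intro Q hQ
        obtain ⟨q, hq, hle⟩ := @Ideal.exists_minimalPrimes_le (D ⧸ I) _ ⊥ Q hQ bot_le
        rcases eq_or_ne q P with rfl | hne
        · exact Ideal.mul_mem_left Q _ (hle hx)
        · exact Ideal.mul_mem_right _ Q (hle (hg q hq hne))
      rw [Ideal.mem_comap, mem_nilradical]
      have := hgx.map (algebraMap (D ⧸ I) D')
      rw [map_mul] at this
      rw [mul_comm] at this
      exact ((IsLocalization.Away.algebraMap_isUnit g).isNilpotent_mul_unit_of_commute_iff (Commute.all _ _)).1 this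
  haveI : (nilradical D').IsPrime := by
    rw [hnil]
    exact IsLocalization.isPrime_of_isPrime_disjoint (Submonoid.powers g) D' P inferInstance hd
  obtain ⟨d, hd0, hfree⟩ := exists_free_model (A₀ := D) (D := D') P₀ (M₀ := M₀)
  obtain ⟨⟨a, s⟩, has⟩ := IsLocalization.surj (Submonoid.powers g) d
  dsimp only at has
  obtain ⟨a₀, rfl⟩ := Ideal.Quotient.mk_surjective a
  obtain ⟨g₀, rfl⟩ := Ideal.Quotient.mk_surjective g
  refine ⟨g₀ * a₀, fun h => hd0 ?_, ?_⟩
  · have h0 : algebraMap (D ⧸ I) D' (Ideal.Quotient.mk I g₀) * algebraMap (D ⧸ I) D' (Ideal.Quotient.mk I a₀) = 0 := by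
      rw [← map_mul, ← map_mul, Ideal.Quotient.eq_zero_iff_mem.2 h, map_zero]
    rw [(IsLocalization.Away.algebraMap_isUnit (Ideal.Quotient.mk I g₀)).mul_right_eq_zero] at h0
    rw [h0, (IsLocalization.map_units D' s).mul_left_eq_zero] at has
    rw [has]
    exact Ideal.zero_mem _
  let f := g₀ * a₀
  let T := Localization.Away f ⧸ I.map (algebraMap D (Localization.Away f))
  let φ₀ : (D ⧸ I) →+* T :=
    Ideal.quotientMap _ (algebraMap D (Localization.Away f)) Ideal.le_comap_map
  have hφ₀ : ∀ x : D, φ₀ (Ideal.Quotient.mk I x) = algebraMap D T x := fun x => Ideal.quotientMap_mk ..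
  have hfu : IsUnit (algebraMap D T f) := by
    rw [IsScalarTower.algebraMap_apply D (Localization.Away f) T]
    exact (IsLocalization.Away.algebraMap_isUnit f).map _
  have hgu : IsUnit (φ₀ (Ideal.Quotient.mk I g₀)) := by
    rw [hφ₀]; exact isUnit_of_dvd_unit (map_dvd _ (dvd_mul_right g₀ a₀)) hfu
  let φ₁ : D' →+* T := IsLocalization.Away.lift (Ideal.Quotient.mk I g₀) hgu
  have hφ₁ : ∀ y, φ₁ (algebraMap (D ⧸ I) D' y) = φ₀ y := fun y => IsLocalization.Away.lift_eq _ hgu y
  have hdu : IsUnit (φ₁ d) := by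
    refine isUnit_of_mul_isUnit_left (y := φ₁ (algebraMap (D ⧸ I) D' (s : D ⧸ I))) ?_
    rw [← map_mul, has, hφ₁, hφ₀]
    exact isUnit_of_dvd_unit (map_dvd _ (dvd_mul_left a₀ g₀)) hfu
  let φ : Localization.Away d →ₐ[D] T :=
    { __ := IsLocalization.Away.lift (g := φ₁) d hdu
      commutes' := fun x => by
        change IsLocalization.Away.lift (g := φ₁) d hdu (algebraMap D (Localization.Away d) x) = _
        rw [IsScalarTower.algebraMap_apply D D' (Localization.Away d), IsLocalization.Away.lift_eq,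
          IsScalarTower.algebraMap_apply D (D ⧸ I) D', hφ₁]
        exact hφ₀ x }
  haveI := hfree
  exact free_of_hom φ M₀

/-- The stratification. -/
theorem exists_strata {D : Type u} [CommRing D] [IsNoetherianRing D] [Algebra D P₀]
    [Algebra.FinitePresentation D P₀] {M₀ : Type u} [AddCommGroup M₀] [Module P₀ M₀] [Module D M₀]
    [IsScalarTower D P₀ M₀] [Module.FinitePresentation P₀ M₀] [Module.Flat D M₀] (I : Ideal D) :
    ∃ l : List D, I ⊔ Ideal.span {a | a ∈ l} = ⊤ ∧ ∀ (i : ℕ) (hi : i < l.length),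
      Module.Free (Localization.Away l[i] ⧸ (I ⊔ Ideal.span {a | a ∈ l.take i}).map (algebraMap D (Localization.Away l[i])))
        ((Localization.Away l[i] ⧸ (I ⊔ Ideal.span {a | a ∈ l.take i}).map (algebraMap D (Localization.Away l[i]))) ⊗[D] M₀) := by
  induction I using WellFoundedGT.induction with
  | ind I ih =>
    by_cases hI : I = ⊤
    · exact ⟨[], by simp [hI], fun i hi => absurd hi (by simp)⟩
    obtain ⟨f, hf, hfree⟩ := exists_stratum P₀ (M₀ := M₀) I hI
    obtain ⟨l, hl, hstrata⟩ := ih (I ⊔ Ideal.span {f}) (lt_of_le_of_ne le_sup_left fun h =>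
      hf (by rw [h]; exact Submodule.mem_sup_right (Ideal.mem_span_singleton_self f)))
    have hcons : ∀ t : List D, I ⊔ Ideal.span {a | a ∈ f :: t} = I ⊔ Ideal.span {f} ⊔ Ideal.span {a | a ∈ t} := fun t => by
      rw [sup_assoc, ← Ideal.span_union]
      congr 1; congr 1
      ext a
      simp
    refine ⟨f :: l, by rw [hcons]; exact hl, fun i hi => ?_⟩
    match i with
    | 0 =>
      have h0 : I ⊔ Ideal.span {a | a ∈ (f :: l).take 0} = I := by simp
      rw [h0]
      exact hfree
    | k + 1 =>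
      have h1 : I ⊔ Ideal.span {a | a ∈ (f :: l).take (k + 1)} =
          I ⊔ Ideal.span {f} ⊔ Ideal.span {a | a ∈ l.take k} := by rw [List.take_succ_cons, hcons]
      rw [h1]
      exact hstrata k (by simpa using hi)

/-- Descent of the stratification. -/
theorem exists_strata_of_model {A A₀ : Type u} [CommRing A] [CommRing A₀] [IsNoetherianRing A₀]
    [Algebra A₀ A] [Algebra A₀ P₀] [Algebra.FinitePresentation A₀ P₀] {M₀ : Type u} [AddCommGroup M₀]
    [Module P₀ M₀] [Module A₀ M₀] [IsScalarTower A₀ P₀ M₀] [Module.FinitePresentation P₀ M₀]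
    [Module.Flat A₀ M₀] :
    ∃ l : List A, Ideal.span {a | a ∈ l} = ⊤ ∧ ∀ (i : ℕ) (hi : i < l.length),
      Module.Free (Localization.Away l[i] ⧸ (Ideal.span {a | a ∈ l.take i}).map (algebraMap A (Localization.Away l[i])))
        ((Localization.Away l[i] ⧸ (Ideal.span {a | a ∈ l.take i}).map (algebraMap A (Localization.Away l[i]))) ⊗[A₀] M₀) := by
  obtain ⟨l, hl, hstrata⟩ := exists_strata P₀ (M₀ := M₀) (⊥ : Ideal A₀)
  rw [bot_sup_eq] at hl
  have himg : ∀ t : List A₀, {a : A | a ∈ t.map (algebraMap A₀ A)} = algebraMap A₀ A '' {a | a ∈ t} := fun t => by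
    ext; simp
  refine ⟨l.map (algebraMap A₀ A), ?_, fun i hi => ?_⟩
  · rw [himg, ← Ideal.map_span, hl, Ideal.map_top]
  have hi' : i < l.length := by simpa using hi
  have h1 := hstrata i hi'
  rw [bot_sup_eq] at h1
  set S := Localization.Away (l.map (algebraMap A₀ A))[i]
  set J := (Ideal.span {a | a ∈ (l.map (algebraMap A₀ A)).take i}).map (algebraMap A S)
  have hu : IsUnit (algebraMap A₀ S l[i]) := by
    rw [IsScalarTower.algebraMap_apply A₀ A S]
    have := IsLocalization.Away.algebraMap_isUnit (S := S) (l.map (algebraMap A₀ A))[i]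
    simpa using this
  let ψ : Localization.Away l[i] →ₐ[A₀] S :=
    { __ := IsLocalization.Away.lift (g := algebraMap A₀ S) l[i] hu
      commutes' := fun x => IsLocalization.Away.lift_eq _ hu x }
  have hle : (Ideal.span {a | a ∈ l.take i}).map (algebraMap A₀ (Localization.Away l[i])) ≤ J.comap ψ := by
    rw [Ideal.map_le_iff_le_comap, Ideal.span_le]
    intro a ha
    show ψ (algebraMap A₀ _ a) ∈ J
    rw [ψ.commutes, IsScalarTower.algebraMap_apply A₀ A S]
    refine Ideal.mem_map_of_mem _ (Ideal.subset_span ?_)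
    rw [← List.map_take, himg]
    exact Set.mem_image_of_mem _ ha
  haveI := h1
  exact free_of_hom (Ideal.quotientMapₐ J ψ hle) M₀

/-- A flat finitely presented module becomes free on the strata of a finite stratification. -/
theorem exists_strata_of_flat {A B : Type u} [CommRing A] [CommRing B] [Algebra A B]
    [Algebra.FinitePresentation A B] (M : Type u) [AddCommGroup M] [Module B M] [Module A M] [IsScalarTower A B M]
    [Module.FinitePresentation B M] [Module.Flat A M] :
    ∃ l : List A, Ideal.span {a | a ∈ l} = ⊤ ∧ ∀ (i : ℕ) (hi : i < l.length),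
      Module.Free (Localization.Away l[i] ⧸ (Ideal.span {a | a ∈ l.take i}).map (algebraMap A (Localization.Away l[i])))
        ((Localization.Away l[i] ⧸ (Ideal.span {a | a ∈ l.take i}).map (algebraMap A (Localization.Away l[i]))) ⊗[A] M) := by
  obtain ⟨n, π, hπ, hker⟩ := Algebra.FinitePresentation.out (R := A) (A := B)
  letI : Algebra (MvPolynomial (Fin n) A) B := π.toRingHom.toAlgebra
  haveI : IsScalarTower A (MvPolynomial (Fin n) A) B := .of_algebraMap_eq fun r => (π.commutes r).symm
  letI : Module (MvPolynomial (Fin n) A) M := Module.compHom M π.toRingHom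
  haveI : IsScalarTower (MvPolynomial (Fin n) A) B M := .of_algebraMap_smul fun _ _ => rfl
  haveI : IsScalarTower A (MvPolynomial (Fin n) A) M := .of_algebraMap_smul fun r z => by
    show π (algebraMap A (MvPolynomial (Fin n) A) r) • z = r • z
    rw [π.commutes, algebraMap_smul]
  haveI : Module.FinitePresentation (MvPolynomial (Fin n) A) B :=
    Module.finitePresentation_of_surjective (Algebra.linearMap (MvPolynomial (Fin n) A) B) hπ hker
  haveI : Module.FinitePresentation (MvPolynomial (Fin n) A) M :=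
    Module.FinitePresentation.trans (R := MvPolynomial (Fin n) A) (S := B) (M := M)
  obtain ⟨A₀, _, _, _, P₀, _, _, _, M₀, _, _, _, _, _, ⟨e⟩⟩ := exists_model (A := A) n M
  haveI : Module.Flat A (A ⊗[A₀] M₀) := Module.Flat.of_linearEquiv e
  obtain ⟨D, hD, hflatD⟩ := exists_flat_sub P₀ (R := A) (A₀ := A₀) (M₀ := M₀) inferInstance
  haveI : Algebra.FiniteType A₀ D := D.fg_iff_finiteType.1 hD
  haveI : IsNoetherianRing D := Algebra.FiniteType.isNoetherianRing A₀ D
  exact transport P₀ (D := D) e
where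
  transport {A : Type u} [CommRing A] {A₀ : Type u} [CommRing A₀] [IsNoetherianRing A₀] [Algebra A₀ A]
      (P₀ : Type u) [CommRing P₀] [Algebra A₀ P₀] [Algebra.FinitePresentation A₀ P₀] {M₀ : Type u}
      [AddCommGroup M₀] [Module P₀ M₀] [Module A₀ M₀] [IsScalarTower A₀ P₀ M₀] [Module.FinitePresentation P₀ M₀]
      {M : Type u} [AddCommGroup M] [Module A M]
      {D : Type u} [CommRing D] [IsNoetherianRing D] [Algebra A₀ D] [Algebra D A] [IsScalarTower A₀ D A]
      [Module.Flat D (D ⊗[A₀] M₀)] (e : A ⊗[A₀] M₀ ≃ₗ[A] M) :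
      ∃ l : List A, Ideal.span {a | a ∈ l} = ⊤ ∧ ∀ (i : ℕ) (hi : i < l.length),
        Module.Free (Localization.Away l[i] ⧸ (Ideal.span {a | a ∈ l.take i}).map (algebraMap A (Localization.Away l[i])))
          ((Localization.Away l[i] ⧸ (Ideal.span {a | a ∈ l.take i}).map (algebraMap A (Localization.Away l[i]))) ⊗[A] M) := by
    let eD : (D ⊗[A₀] P₀) ⊗[P₀] M₀ ≃ₗ[D] D ⊗[A₀] M₀ :=
      Algebra.IsPushout.cancelBaseChange A₀ D P₀ (D ⊗[A₀] P₀) M₀
    haveI : Module.Flat D ((D ⊗[A₀] P₀) ⊗[P₀] M₀) := Module.Flat.of_linearEquiv eD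
    obtain ⟨l, hl, h⟩ := exists_strata_of_model (A := A) (A₀ := D) (D ⊗[A₀] P₀) (M₀ := (D ⊗[A₀] P₀) ⊗[P₀] M₀)
    refine ⟨l, hl, fun i hi => ?_⟩
    haveI := h i hi
    let T := Localization.Away l[i] ⧸ (Ideal.span {a | a ∈ l.take i}).map (algebraMap A (Localization.Away l[i]))
    exact Module.Free.of_equiv' (h i hi)
      (((AlgebraTensorModule.congr (LinearEquiv.refl T T) eD).trans
        (AlgebraTensorModule.cancelBaseChange A₀ D T T M₀)).trans
        ((AlgebraTensorModule.cancelBaseChange A₀ A T T M₀).symm.trans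
          (AlgebraTensorModule.congr (LinearEquiv.refl T T) e)))

end Groth.Agent.GenFreeIrred
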